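/-
Graphs on a conjugacy class joining elements whose product has odd order: diameter two.
-/
import Mathlib.GroupTheory.OrderOfElement
import Mathlib.Algebra.Group.Conj
import Mathlib.Combinatorics.SimpleGraph.Diam
import Mathlib.Tactic.NormNum
import Mathlib.Tactic.Group

set_option autoImplicit false

namespace Cfsg.Agent.OddGraph

variable {G : Type*} [Group G]

theorem orderOf_swap (x y : G) : orderOf (y * x) = orderOf (x * y) := by
  have h : SemiconjBy y (x * y) (y * x) := by simp [SemiconjBy, mul_assoc]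
  have hf : y * x = MulAut.conj y (x * y) := by simp [mul_assoc]
  rw [hf, MulEquiv.orderOf_eq]

theorem orderOf_conj_mul (g x y : G) :
    orderOf (g * x * g⁻¹ * (g * y * g⁻¹)) = orderOf (x * y) := by
  have hf : g * x * g⁻¹ * (g * y * g⁻¹) = MulAut.conj g (x * y) := by simp [mul_assoc]
  rw [hf, MulEquiv.orderOf_eq]

/-- It suffices to find common neighbours of one fixed element and a non-neighbour. -/
theorem diam_two (t x₀ : G) (ht : IsConj t x₀)
    (hcom : ∀ y, IsConj x₀ y → y ≠ x₀ → ¬ Odd (orderOf (x₀ * y)) →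
      ∃ z, IsConj x₀ z ∧ z ≠ x₀ ∧ z ≠ y ∧ Odd (orderOf (x₀ * z)) ∧ Odd (orderOf (z * y)))
    (hfar : ∃ y, IsConj x₀ y ∧ y ≠ x₀ ∧ ¬ Odd (orderOf (x₀ * y))) :
    (SimpleGraph.fromRel fun x y : {x : G // IsConj t x} => Odd (orderOf (x.1 * y.1))).Connected ∧
      (SimpleGraph.fromRel fun x y : {x : G // IsConj t x} =>
        Odd (orderOf (x.1 * y.1))).diam = 2 := by
  set Γ := SimpleGraph.fromRel fun x y : {x : G // IsConj t x} => Odd (orderOf (x.1 * y.1)) with hΓ
  have hadj : ∀ u v : {x : G // IsConj t x}, u.1 ≠ v.1 → Odd (orderOf (u.1 * v.1)) → Γ.Adj u v :=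
    fun u v h1 h2 => by
      rw [hΓ, SimpleGraph.fromRel_adj]
      exact ⟨fun h => h1 (congrArg Subtype.val h), Or.inl h2⟩
  have hle : ∀ u v, Γ.edist u v ≤ 2 := by
    intro u v
    by_cases huv : u = v
    · subst huv; simp
    by_cases ha : Γ.Adj u v
    · exact (SimpleGraph.edist_eq_one_iff_adj.2 ha).le.trans (by norm_num)
    obtain ⟨g, hg⟩ := isConj_iff.1 (ht.symm.trans u.2)
    have hv : v.1 = g * (g⁻¹ * v.1 * g) * g⁻¹ := by group
    have hy : IsConj x₀ (g⁻¹ * v.1 * g) :=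
      (ht.symm.trans v.2).trans (isConj_iff.2 ⟨g⁻¹, by simp⟩)
    have hy1 : g⁻¹ * v.1 * g ≠ x₀ := by
      intro h
      rw [h, hg] at hv
      exact huv (Subtype.ext hv.symm)
    have hy2 : ¬ Odd (orderOf (x₀ * (g⁻¹ * v.1 * g))) := by
      rw [← orderOf_conj_mul g, ← hv, hg]
      exact fun h => ha (hadj u v (fun h => huv (Subtype.ext h)) h)
    obtain ⟨z, hz, hz1, hz2, ho1, ho2⟩ := hcom _ hy hy1 hy2
    let w : {x : G // IsConj t x} :=
      ⟨g * z * g⁻¹, (ht.trans hz).trans (isConj_iff.2 ⟨g, rfl⟩)⟩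
    have h1 : Γ.Adj u w := by
      refine hadj u w ?_ ?_
      · show u.1 ≠ g * z * g⁻¹
        rw [← hg]
        simpa using hz1.symm
      · show Odd (orderOf (u.1 * (g * z * g⁻¹)))
        rw [← hg, orderOf_conj_mul]
        exact ho1
    have h2 : Γ.Adj w v := by
      refine hadj w v ?_ ?_
      · show g * z * g⁻¹ ≠ v.1
        rw [hv]
        simpa using hz2
      · show Odd (orderOf (g * z * g⁻¹ * v.1))
        rw [hv, orderOf_conj_mul]
        exact ho2
    exact (SimpleGraph.edist_le (SimpleGraph.Walk.cons h1 (SimpleGraph.Walk.cons h2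
      SimpleGraph.Walk.nil))).trans (by simp)
  obtain ⟨y, hy, hy1, hy2⟩ := hfar
  let u : {x : G // IsConj t x} := ⟨x₀, ht⟩
  let v : {x : G // IsConj t x} := ⟨y, ht.trans hy⟩
  haveI : Nonempty {x : G // IsConj t x} := ⟨u⟩
  have hne : Γ.ediam ≠ ⊤ := ne_top_of_le_ne_top (by simp) (SimpleGraph.ediam_le_of_edist_le hle)
  refine ⟨SimpleGraph.connected_of_ediam_ne_top hne, ?_⟩
  have hnad : ¬ Γ.Adj u v := by
    rw [hΓ, SimpleGraph.fromRel_adj]
    rintro ⟨-, h | h⟩
    · exact hy2 h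
    · rw [orderOf_swap] at h; exact hy2 h
  have h2le : (2 : ℕ∞) ≤ Γ.edist u v := by
    by_contra h
    rw [not_le] at h
    have h' : Γ.edist u v ≤ 1 := by
      rw [show (2 : ℕ∞) = 1 + 1 from rfl] at h
      exact (ENat.lt_add_one_iff (by simp)).1 h
    rcases SimpleGraph.edist_le_one_iff_adj_or_eq.1 h' with h' | h'
    · exact hnad h'
    · exact hy1 (congrArg Subtype.val h').symm
  have he : Γ.ediam = 2 :=
    le_antisymm (SimpleGraph.ediam_le_of_edist_le hle) (h2le.trans SimpleGraph.edist_le_ediam)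
  rw [SimpleGraph.diam, he]
  rfl

end Cfsg.Agent.OddGraph
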