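/-
Orders in PSL_2 read off from traces, and trace-zero elements in coordinates.
-/
import Cfsg.Agent.Lib.Classical.PSL2Involutions

set_option autoImplicit false

namespace Cfsg.Agent.PSLGraph

open Matrix SL2Inv PSL2Inv

variable {F : Type*} [Field F]

local notation "S" => Matrix.SpecialLinearGroup (Fin 2) F

/-- The trace-zero element with entries `a, b, e`. -/
def mk (a b e : F) (h : -(a * a) - b * e = 1) : S :=
  ⟨!![a, b; e, -a], by rw [det_fin_two_of]; linear_combination h⟩

theorem trace_mk (a b e : F) (h) : (mk a b e h).1.trace = 0 := by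
  simp [mk, trace_fin_two]

theorem exists_mk (g : S) (hg : g.1.trace = 0) : ∃ a b e h, g = mk a b e h := by
  rw [trace_fin_two] at hg
  have hd := g.2
  rw [det_fin_two] at hd
  refine ⟨g.1 0 0, g.1 0 1, g.1 1 0, by linear_combination hd - g.1 0 0 * hg, ?_⟩
  apply Subtype.ext
  ext i j
  fin_cases i <;> fin_cases j <;> simp [mk]
  linear_combination hg

theorem trace_w_mul (a b e : F) (h) : ((w : S) * mk a b e h).1.trace = b - e := by
  rw [Matrix.SpecialLinearGroup.coe_mul]
  simp [mk, w, trace_fin_two, Matrix.mul_apply, Fin.sum_univ_two]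
  ring

theorem trace_mk_mul (a b e : F) (h) (a' b' e' : F) (h') :
    (mk a b e h * mk a' b' e' h').1.trace = 2 * (a * a') + b * e' + e * b' := by
  rw [Matrix.SpecialLinearGroup.coe_mul]
  simp [mk, trace_fin_two, Matrix.mul_apply, Fin.sum_univ_two]
  ring

theorem pr_mk_eq_w {a b e : F} {h} (hp : pr (mk a b e h) = pr (w : S)) :
    a = 0 ∧ ((b = -1 ∧ e = 1) ∨ (b = 1 ∧ e = -1)) := by
  rcases pr_eq_iff.1 hp with h1 | h1
  · have h00 := congrFun (congrFun (congrArg Subtype.val h1) 0) 0
    have h01 := congrFun (congrFun (congrArg Subtype.val h1) 0) 1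
    have h10 := congrFun (congrFun (congrArg Subtype.val h1) 1) 0
    simp [mk, w] at h00 h01 h10
    exact ⟨h00.symm, Or.inl ⟨h01.symm, h10.symm⟩⟩
  · have h00 := congrFun (congrFun (congrArg Subtype.val h1) 0) 0
    have h01 := congrFun (congrFun (congrArg Subtype.val h1) 0) 1
    have h10 := congrFun (congrFun (congrArg Subtype.val h1) 1) 0
    rw [Matrix.SpecialLinearGroup.coe_mul, coe_negOne] at h00 h01 h10
    simp [mk, w] at h00 h01 h10
    exact ⟨h00, Or.inr ⟨h01.symm, by linear_combination h10⟩⟩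

theorem trace_eq_or_neg_of_pr {x y u : S} (h : pr x = pr y) :
    (u * y).1.trace = (u * x).1.trace ∨ (u * y).1.trace = -(u * x).1.trace := by
  rcases pr_eq_iff.1 h with rfl | rfl
  · exact Or.inl rfl
  · right
    rw [← mul_assoc, ← negOne_comm, mul_assoc, trace_negOne_mul]

theorem cayley (g : S) : g.1 * g.1 = g.1.trace • g.1 - 1 := by
  have h := SL2Orders.sq_eq g
  rw [pow_two] at h
  rw [← sub_eq_zero, ← h]
  abel

theorem pr_eq_one_of_smul {g : S} {c : F} (hg : g.1 = c • 1) (hc : c = 1 ∨ c = -1) :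
    pr g = 1 := by
  rw [pr_eq_one_iff]
  rcases hc with rfl | rfl
  · exact Or.inl (Subtype.ext (by rw [hg]; simp))
  · exact Or.inr (Subtype.ext (by rw [hg, coe_negOne]; simp))

theorem odd_of_trace_four [Finite F] (h2 : (2 : F) ≠ 0) (g : S) (ht : g.1.trace * g.1.trace = 4) :
    Odd (orderOf (pr g)) := by
  obtain ⟨p, hp⟩ := CharP.exists F
  haveI := hp
  have hpp : p.Prime := (CharP.char_is_prime_or_zero F p).resolve_right
    (CharP.char_ne_zero_of_finite F p)
  have hp2 : p ≠ 2 := by
    rintro rfl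
    exact h2 (by simpa using CharP.cast_eq_zero F 2)
  set u := g.1.trace / 2 with hu
  have hu1 : u * u = 1 := by
    rw [hu]; field_simp; linear_combination ht
  have htu : g.1.trace = 2 * u := by rw [hu]; field_simp
  clear_value u
  have hpow : ∀ n : ℕ, g.1 ^ n = u ^ n • (1 : Matrix (Fin 2) (Fin 2) F) +
      ((n : F) * u ^ (n + 1)) • (g.1 - u • 1) := by
    intro n
    induction n with
    | zero => simp
    | succ n ih =>
      rw [pow_succ, ih, add_mul, smul_mul_assoc, smul_mul_assoc, one_mul, sub_mul, smul_mul_assoc,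
        one_mul, cayley g, htu]
      match_scalars
      · push_cast; linear_combination -(u ^ n) * hu1
      · push_cast; linear_combination ((n : F) + 1) * u * u ^ n * hu1
  have hgp : g.1 ^ p = u ^ p • 1 := by rw [hpow, CharP.cast_eq_zero]; simp
  have h1 : pr g ^ p = 1 := by
    rw [← map_pow]
    refine pr_eq_one_of_smul (c := u ^ p) (by rw [Matrix.SpecialLinearGroup.coe_pow, hgp])
      (mul_self_eq_one_iff.1 (by rw [← mul_pow, hu1, one_pow]))
  exact Odd.of_dvd_nat (hpp.odd_of_ne_two hp2) (orderOf_dvd_of_pow_eq_one h1)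

theorem odd_of_trace_disc [Fintype F] (h3 : Fintype.card F % 4 = 3) (g : S) (δ : F) (hδ : δ ≠ 0)
    (ht : g.1.trace * g.1.trace - 4 = δ * δ) : Odd (orderOf (pr g)) := by
  have h2 : (2 : F) ≠ 0 := by
    intro h
    have hc : ringChar F = 2 := by
      by_contra hc
      exact (Ring.two_ne_zero hc) h
    have := FiniteField.even_card_of_char_two hc
    omega
  set t := g.1.trace with htdef
  set l := (t + δ) / 2 with hl
  set m := (t - δ) / 2 with hm
  have hlm : l * m = 1 := by
    rw [hl, hm]; field_simp; linear_combination ht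
  have hsum : l + m = t := by rw [hl, hm]; field_simp; ring
  have hdiff : l - m = δ := by rw [hl, hm]; field_simp; ring
  clear_value l m
  have hpow : ∀ n : ℕ, (l - m) • g.1 ^ n =
      (l ^ n) • (g.1 - m • 1) - (m ^ n) • (g.1 - l • (1 : Matrix (Fin 2) (Fin 2) F)) := by
    intro n
    induction n with
    | zero => rw [pow_zero, pow_zero, pow_zero]; module
    | succ n ih =>
      rw [pow_succ, ← smul_mul_assoc, ih, sub_mul, smul_mul_assoc, smul_mul_assoc, sub_mul, sub_mul,
        smul_mul_assoc, smul_mul_assoc, one_mul, cayley g, ← htdef, ← hsum]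
      match_scalars
      · linear_combination (0 : F)
      · linear_combination (l ^ n - m ^ n) * hlm
  set n := (Fintype.card F - 1) / 2 with hn
  have hl0 : l ≠ 0 := left_ne_zero_of_mul_eq_one hlm
  have hln : l ^ n = 1 ∨ l ^ n = -1 := by
    refine mul_self_eq_one_iff.1 ?_
    rw [← pow_add, show n + n = Fintype.card F - 1 from by omega]
    exact FiniteField.pow_card_sub_one_eq_one l hl0
  have hmn : m ^ n = l ^ n := by
    have h : l ^ n * m ^ n = 1 := by rw [← mul_pow, hlm, one_pow]
    rcases hln with e | e <;> rw [e] at h ⊢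
    · linear_combination h
    · linear_combination -h
  have hgn : g.1 ^ n = l ^ n • 1 := by
    have h := hpow n
    rw [hmn] at h
    refine smul_right_injective _ (show l - m ≠ 0 by rw [hdiff]; exact hδ) ?_
    simp only [h]
    module
  have h1 : pr g ^ n = 1 := by
    rw [← map_pow]
    exact pr_eq_one_of_smul (c := l ^ n) (by rw [Matrix.SpecialLinearGroup.coe_pow, hgn]) hln
  exact Odd.of_dvd_nat ⟨(Fintype.card F - 3) / 4, by omega⟩ (orderOf_dvd_of_pow_eq_one h1)

theorem odd_of_trace_ne [Finite F] (h2 : (2 : F) = 0) (g : S) (ht : g.1.trace ≠ 0) :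
    Odd (orderOf (pr g)) := by
  refine Odd.of_dvd_nat ?_ (orderOf_map_dvd pr g)
  rw [← Nat.not_even_iff_odd]
  rintro ⟨j, hj⟩
  have hpos := orderOf_pos g
  set k := g ^ j with hk
  have hkk : k * k = 1 := by rw [hk, ← pow_add, ← hj, pow_orderOf_eq_one]
  have hk1 : k ≠ 1 := pow_ne_one_of_lt_orderOf (by omega) (by omega)
  have hspan : ∀ n : ℕ, ∃ α β : F, g.1 ^ n = α • g.1 + β • 1 := by
    intro n
    induction n with
    | zero => exact ⟨0, 1, by simp⟩
    | succ n ih =>
      obtain ⟨α, β, h⟩ := ih
      refine ⟨α * g.1.trace + β, -α, ?_⟩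
      rw [pow_succ, h, add_mul, smul_mul_assoc, smul_mul_assoc, one_mul, cayley g]
      module
  obtain ⟨α, β, hab⟩ := hspan j
  have hkv : k.1 = α • g.1 + β • 1 := by rw [hk, Matrix.SpecialLinearGroup.coe_pow, hab]
  have h11 : (1 : F) + 1 = 0 := by rw [one_add_one_eq_two]; exact h2
  have htk : k.1.trace = 0 := by
    have h := cayley k
    rw [← Matrix.SpecialLinearGroup.coe_mul, hkk, Matrix.SpecialLinearGroup.coe_one] at h
    have h' : k.1.trace • k.1 = 0 := by
      rw [eq_comm, sub_eq_iff_eq_add] at h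
      rw [h, ← one_smul F (1 : Matrix (Fin 2) (Fin 2) F), ← add_smul, h11, zero_smul]
    rcases smul_eq_zero.1 h' with h0 | h0
    · exact h0
    · have := k.2
      rw [h0] at this
      simp at this
  rw [hkv, trace_fin_two] at htk
  simp at htk
  have hα : α = 0 := by
    rw [trace_fin_two] at ht
    have : α * (g.1 0 0 + g.1 1 1) = 0 := by linear_combination htk - β * h2
    exact (mul_eq_zero.1 this).resolve_right ht
  apply hk1
  rw [hα, zero_smul, zero_add] at hkv
  have hd := k.2
  rw [hkv, det_fin_two] at hd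
  simp at hd
  have hb : β = 1 := by
    rcases mul_self_eq_one_iff.1 hd with h | h
    · exact h
    · rw [h]; linear_combination -h2
  exact Subtype.ext (by rw [hkv, hb, one_smul]; rfl)

end Cfsg.Agent.PSLGraph
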