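/-
Common neighbours of involutions in PSL_2.
-/
import Cfsg.Agent.Lib.PSLGraph.Trace
import Cfsg.Agent.Lib.PSLGraph.OddGraph
import Mathlib.NumberTheory.LegendreSymbol.QuadraticChar.Basic

set_option autoImplicit false

namespace Cfsg.Agent.PSLGraph

open Matrix SL2Inv PSL2Inv

variable {F : Type*} [Field F] [Fintype F]

local notation "S" => Matrix.SpecialLinearGroup (Fin 2) F
local notation "P" => Matrix.ProjectiveSpecialLinearGroup (Fin 2) F

theorem isSquare_or_neg (hn : ¬ IsSquare (-1 : F)) (x : F) : IsSquare x ∨ IsSquare (-x) := by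
  classical
  have h2 : ringChar F ≠ 2 := fun h => hn (FiniteField.isSquare_of_char_two h _)
  by_cases hx : x = 0
  · exact Or.inl (by rw [hx]; exact IsSquare.zero)
  by_contra hc
  rw [not_or] at hc
  have e1 := (quadraticChar_neg_one_iff_not_isSquare (F := F) (a := x)).2 hc.1
  have e2 := (quadraticChar_neg_one_iff_not_isSquare (F := F) (a := -x)).2 hc.2
  have e3 := (quadraticChar_neg_one_iff_not_isSquare (F := F) (a := (-1 : F))).2 hn
  rw [← neg_one_mul x, map_mul, e1, e3] at e2
  norm_num at e2

theorem exists_sign_change (hn : ¬ IsSquare (-1 : F)) (h4 : 4 ≤ Fintype.card F) (c h : F)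
    (hh : h ≠ 0) (hch : h * h = 1 - c * c) :
    ∃ k M : F, k ≠ 0 ∧ M ≠ 0 ∧ IsSquare (M / k) ∧
      IsSquare (-(((k - c) * (k - c) + h * h) * ((M - c) * (M - c) + h * h))) := by
  classical
  have hN : ∀ x : F, (x - c) * (x - c) + h * h ≠ 0 := by
    intro x hx
    exact hn ⟨(x - c) / h, by field_simp; linear_combination -hx⟩
  have h2 : (2 : F) ≠ 0 := by
    intro h2
    exact hn ⟨1, by linear_combination -h2⟩
  by_contra hcon
  push Not at hcon
  set N : F → F := fun x => (x - c) * (x - c) + h * h with hNdef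
  have hsame : ∀ k M, k ≠ 0 → M ≠ 0 → IsSquare (M / k) → IsSquare (N k * N M) := fun k M a b e =>
    ((isSquare_or_neg hn _).resolve_right (hcon k M a b e))
  have hN0 : ∀ x, N x ≠ 0 := hN
  clear_value N
  -- `N` has the same class at `1` and `-1`
  have hpm : IsSquare (N 1 * N (-1)) := ⟨2 * h, by simp only [hNdef]; linear_combination (h * h + c * c - 1) * hch⟩
  have hall : ∀ x, x ≠ 0 → IsSquare (N 1 * N x) := by
    intro x hx
    rcases isSquare_or_neg hn x with hs | hs
    · exact hsame 1 x one_ne_zero hx (by simpa using hs)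
    · have hm := hsame (-1) x (by simp) hx (by simpa [div_neg] using hs)
      have e : N 1 * N x = (N 1 * N (-1)) * (N (-1) * N x) / (N (-1) * N (-1)) := by
        have := hN0 (-1)
        field_simp
      rw [e]
      exact (hpm.mul hm).div ⟨N (-1), rfl⟩
  -- a Pythagorean value
  obtain ⟨t, ht0, ht1, ht2⟩ : ∃ t : F, t ≠ 0 ∧ t ≠ 1 ∧ t ≠ -1 := by
    by_contra hno
    push Not at hno
    have hsub : (Finset.univ : Finset F) ⊆ {0, 1, -1} := by
      intro x _
      simp only [Finset.mem_insert, Finset.mem_singleton]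
      by_cases a : x = 0
      · exact Or.inl a
      by_cases b : x = 1
      · exact Or.inr (Or.inl b)
      exact Or.inr (Or.inr (hno x a b))
    have h1 := (Finset.card_le_card hsub).trans Finset.card_le_three
    rw [Finset.card_univ] at h1
    omega
  have hex : ∃ x, x ≠ 0 ∧ IsSquare (N x) := by
    by_cases hc : c = 0
    · have hs : 1 - t * t ≠ 0 := by
        intro e
        rcases mul_self_eq_one_iff.1 (sub_eq_zero.1 e).symm with e | e
        · exact ht1 e
        · exact ht2 e
      subst hc
      refine ⟨2 * t / (1 - t * t), div_ne_zero (mul_ne_zero h2 ht0) hs, (1 + t * t) / (1 - t * t), ?_⟩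
      simp only [hNdef]
      rw [show h * h = 1 from by rw [hch]; ring, sub_zero, div_mul_div_comm, div_mul_div_comm,
        div_add_one (mul_ne_zero hs hs)]
      congr 1
      ring
    · exact ⟨2 * c, mul_ne_zero h2 hc, 1, by simp only [hNdef]; linear_combination hch⟩
  obtain ⟨x₁, hx₁, hsx⟩ := hex
  have hN1 : IsSquare (N 1) := by
    have e : N 1 = N 1 * N x₁ / N x₁ := by
      have := hN0 x₁
      field_simp
    rw [e]
    exact (hall x₁ hx₁).div hsx
  have hsq : ∀ x, IsSquare (N x) := by
    intro x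
    by_cases hx : x = 0
    · exact ⟨1, by simp only [hNdef, hx]; linear_combination hch⟩
    have e : N x = N 1 * N x / N 1 := by
      have := hN0 1
      field_simp
    rw [e]
    exact (hall x hx).div hN1
  have hstep : ∀ y : F, IsSquare (y * y + 1) := by
    intro y
    obtain ⟨r, hr⟩ := hsq (h * y + c)
    simp only [hNdef] at hr
    exact ⟨r / h, by field_simp; linear_combination hr⟩
  have hnat : ∀ n : ℕ, IsSquare (n : F) := by
    intro n
    induction n with
    | zero => simp
    | succ n ih =>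
      obtain ⟨r, hr⟩ := ih
      rw [Nat.cast_succ, hr]
      exact hstep r
  obtain ⟨p, hp⟩ := CharP.exists F
  haveI := hp
  have hp0 : p ≠ 0 := CharP.char_ne_zero_of_finite F p
  apply hn
  have := hnat (p - 1)
  rwa [Nat.cast_sub (Nat.one_le_iff_ne_zero.2 hp0), CharP.cast_eq_zero, Nat.cast_one, zero_sub]
    at this

theorem odd_pair (h3 : Fintype.card F % 4 = 3) (u v : S) (s δ : F)
    (ht : (u * v).1.trace = -(2 * s)) (hs : s * s - 1 = δ * δ) :
    Odd (orderOf (pr u * pr v)) := by
  rw [← map_mul]
  by_cases hδ : δ = 0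
  · refine odd_of_trace_four ?_ _ (by rw [ht]; subst hδ; linear_combination 4 * hs)
    intro h
    exact (FiniteField.isSquare_neg_one_iff.not_left.2 h3) ⟨1, by linear_combination -h⟩
  · have h2 : (2 : F) ≠ 0 := fun h => (FiniteField.isSquare_neg_one_iff.not_left.2 h3)
      ⟨1, by linear_combination -h⟩
    exact odd_of_trace_disc h3 _ (2 * δ) (mul_ne_zero h2 hδ)
      (by rw [ht]; linear_combination 4 * hs)

omit [Fintype F] in
theorem split_w (a b e : F) (h2 : (2 : F) ≠ 0) (hdet : -(a * a) - b * e = 1) :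
    ∃ c m, b = m - c ∧ e = m + c ∧ a * a + m * m = c * c - 1 := by
  refine ⟨(e - b) / 2, (e + b) / 2, by field_simp; ring, by field_simp; ring, ?_⟩
  field_simp
  linear_combination (-4 : F) * hdet

theorem hcom_three (h3 : Fintype.card F % 4 = 3) (h4 : 4 ≤ Fintype.card F) (a b e : F) (hdet)
    (hna : ¬ Odd (orderOf (pr (w : S) * pr (mk a b e hdet)))) :
    ∃ z : S, z.1.trace = 0 ∧ pr z ≠ pr w ∧ pr z ≠ pr (mk a b e hdet) ∧
      Odd (orderOf (pr w * pr z)) ∧ Odd (orderOf (pr z * pr (mk a b e hdet))) := by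
  have hn : ¬ IsSquare (-1 : F) := FiniteField.isSquare_neg_one_iff.not_left.2 h3
  have h2 : (2 : F) ≠ 0 := fun h => hn ⟨1, by linear_combination -h⟩
  obtain ⟨c, m, hb, he, ham⟩ := split_w a b e h2 hdet
  have hty : ((w : S) * mk a b e hdet).1.trace = -(2 * c) := by
    rw [trace_w_mul, hb, he]; ring
  have hnsq : ¬ IsSquare (c * c - 1) := by
    rintro ⟨δ, hδ⟩
    exact hna (odd_pair h3 _ _ c δ hty hδ)
  obtain ⟨h, hh⟩ := (isSquare_or_neg hn (c * c - 1)).resolve_left hnsq
  have hch : h * h = 1 - c * c := by linear_combination -hh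
  have hh0 : h ≠ 0 := by
    rintro rfl
    exact hnsq ⟨0, by linear_combination -hh⟩
  obtain ⟨k, M, hk, hM, ⟨l, hl⟩, ⟨u, hu⟩⟩ := exists_sign_change hn h4 c h hh0 hch
  have hl0 : l ≠ 0 := by
    rintro rfl
    simp [hM, hk] at hl
  have hM' : M = k * l * l := by field_simp at hl; linear_combination hl
  subst hM'
  set s := (l + 1 / l) / 2 with hs
  set r := (k * l + 1 / (k * l)) / 2 with hr
  set v := u / (2 * k * l) with hv
  have hkl : k * l ≠ 0 := mul_ne_zero hk hl0
  have hsq1 : s * s - 1 = (l - 1 / l) / 2 * ((l - 1 / l) / 2) := by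
    rw [hs]; field_simp; ring
  have hsq2 : r * r - 1 = (k * l - 1 / (k * l)) / 2 * ((k * l - 1 / (k * l)) / 2) := by
    rw [hr]; field_simp; ring
  set A := k * k * l * l + 1 - c * k * l * l - c * k with hA
  have key : -(h * h * (k * k) * (l * l - 1) * (l * l - 1) + A * A) = u * u := by
    rw [hA]
    linear_combination hu + (k * k * l * l + 1 - c * k * l * l - c * k +
      ((k - c) * (k * l * l - c) + h * h)) * hch
  have hvv : h * h * (1 - s * s) - (r - c * s) * (r - c * s) = v * v := by
    have e1 : h * h * (1 - s * s) - (r - c * s) * (r - c * s) =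
        -(h * h * (k * k) * (l * l - 1) * (l * l - 1) + A * A) / (2 * k * l * (2 * k * l)) := by
      rw [hs, hr, hA]; field_simp; ring
    rw [e1, key, hv, div_mul_div_comm]
  clear_value s r v
  set α := (r - c * s) / (h * h) with hα
  set β := v / (h * h) with hβ
  have hamh : a * a + m * m = -(h * h) := by linear_combination ham + hch
  have hαh : α * (h * h) = r - c * s := by rw [hα]; field_simp
  have hz : -((α * a - β * m) * (α * a - β * m)) -
      (-s + α * m + β * a) * (s + α * m + β * a) = 1 := by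
    have e : (α * α + β * β) * (h * h) = 1 - s * s := by
      have e' : (α * α + β * β) * (h * h) =
          ((r - c * s) * (r - c * s) + v * v) / (h * h) := by
        rw [hα, hβ]; field_simp
      rw [e', ← hvv]
      field_simp
      ring
    linear_combination (-(α * α + β * β)) * hamh + e
  clear_value α β
  refine ⟨mk _ _ _ hz, trace_mk _ _ _ hz, ?_, ?_, ?_, ?_⟩
  · intro he'
    have htw : ((w : S) * mk _ _ _ hz).1.trace = -(2 * s) := by rw [trace_w_mul]; ring
    have hty2 : (mk _ _ _ hz * mk a b e hdet).1.trace = -(2 * r) := by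
      rw [trace_mk_mul, hb, he]
      linear_combination (2 * α) * hamh - 2 * hαh
    have hod := odd_pair h3 _ _ r _ hty2 hsq2
    rw [he'] at hod
    exact hna hod
  · intro he'
    have htw : ((w : S) * mk _ _ _ hz).1.trace = -(2 * s) := by rw [trace_w_mul]; ring
    have hod := odd_pair h3 _ _ s _ htw hsq1
    rw [he'] at hod
    exact hna hod
  · exact odd_pair h3 _ _ s _ (by rw [trace_w_mul]; ring) hsq1
  · refine odd_pair h3 _ _ r _ ?_ hsq2
    rw [trace_mk_mul, hb, he]
    linear_combination (2 * α) * hamh - 2 * hαh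

theorem hcom_one (hi : IsSquare (-1 : F)) (h2 : (2 : F) ≠ 0) (a b e : F) (hdet)
    (hna : ¬ Odd (orderOf (pr (w : S) * pr (mk a b e hdet)))) :
    ∃ z : S, z.1.trace = 0 ∧ pr z ≠ pr w ∧ pr z ≠ pr (mk a b e hdet) ∧
      Odd (orderOf (pr w * pr z)) ∧ Odd (orderOf (pr z * pr (mk a b e hdet))) := by
  obtain ⟨i, hi⟩ := hi
  obtain ⟨c, m, hb, he, ham⟩ := split_w a b e h2 hdet
  have hc : c * c - 1 ≠ 0 := by
    intro h0
    refine hna ?_
    rw [← map_mul]
    exact odd_of_trace_four h2 _ (by rw [trace_w_mul, hb, he]; linear_combination 4 * h0)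
  set α := (c - 1) / (c * c - 1) with hα
  have hz : -((α * a - i * α * m) * (α * a - i * α * m)) -
      (-1 + α * m + i * α * a) * (1 + α * m + i * α * a) = 1 := by
    linear_combination (α * α * (a * a + m * m)) * hi
  have htw : ((w : S) * mk _ _ _ hz).1.trace = -2 := by rw [trace_w_mul]; ring
  have hαc : α * (c * c - 1) = c - 1 := div_mul_cancel₀ _ hc
  have hty : (mk _ _ _ hz * mk a b e hdet).1.trace = -2 := by
    rw [trace_mk_mul, hb, he]
    linear_combination (2 * α) * ham + 2 * hαc
  have o1 : Odd (orderOf (pr w * pr (mk _ _ _ hz))) := by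
    rw [← map_mul]; exact odd_of_trace_four h2 _ (by rw [htw]; ring)
  have o2 : Odd (orderOf (pr (mk _ _ _ hz) * pr (mk a b e hdet))) := by
    rw [← map_mul]; exact odd_of_trace_four h2 _ (by rw [hty]; ring)
  refine ⟨mk _ _ _ hz, trace_mk _ _ _ hz, ?_, ?_, o1, o2⟩
  · intro he'; rw [he'] at o2; exact hna o2
  · intro he'; rw [he'] at o1; exact hna o1

theorem hcom_two (h2 : (2 : F) = 0) (h4 : 4 ≤ Fintype.card F) (a b e : F) (hdet)
    (hy1 : pr (mk a b e hdet) ≠ 1)
    (hna : ¬ Odd (orderOf (pr (w : S) * pr (mk a b e hdet)))) :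
    ∃ z : S, z.1.trace = 0 ∧ pr z ≠ pr w ∧ pr z ≠ pr (mk a b e hdet) ∧
      Odd (orderOf (pr w * pr z)) ∧ Odd (orderOf (pr z * pr (mk a b e hdet))) := by
  classical
  have hbe : b = e := by
    by_contra hbe
    refine hna ?_
    rw [← map_mul]
    exact odd_of_trace_ne h2 _ (by rw [trace_w_mul]; exact sub_ne_zero.2 hbe)
  subst hbe
  have hab : a = b + 1 := by
    have h : (a - (b + 1)) * (a - (b + 1)) = 0 := by
      linear_combination (-1 : F) * hdet + (-(a * b) - a + b) * h2
    exact sub_eq_zero.1 (mul_self_eq_zero.1 h)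
  have hb0 : b ≠ 0 := by
    rintro rfl
    rw [zero_add] at hab
    refine hy1 (pr_eq_one_iff.2 (Or.inl ?_))
    apply Subtype.ext
    ext i j
    fin_cases i <;> fin_cases j <;> simp [mk, hab]
    linear_combination -h2
  obtain ⟨k, hk0, hk1⟩ : ∃ k : F, k ≠ 0 ∧ k ≠ 1 := by
    by_contra hno
    push Not at hno
    have hsub : (Finset.univ : Finset F) ⊆ {0, 1} := by
      intro x _
      by_cases a : x = 0
      · simp [a]
      · simp [hno x a]
    have h1 := (Finset.card_le_card hsub).trans Finset.card_le_two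
    rw [Finset.card_univ] at h1
    omega
  have hz : -((0 : F) * 0) - k * (1 / k) = 1 := by field_simp; linear_combination -h2
  have hk2 : k - 1 / k ≠ 0 := by
    intro h
    field_simp at h
    have : (k - 1) * (k - 1) = 0 := by linear_combination h + (1 - k) * h2
    exact hk1 (sub_eq_zero.1 (mul_self_eq_zero.1 this))
  have o1 : Odd (orderOf (pr w * pr (mk 0 k (1 / k) hz))) := by
    rw [← map_mul]
    exact odd_of_trace_ne h2 _ (by rw [trace_w_mul]; exact hk2)
  have o2 : Odd (orderOf (pr (mk 0 k (1 / k) hz) * pr (mk a b b hdet))) := by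
    rw [← map_mul]
    refine odd_of_trace_ne h2 _ ?_
    rw [trace_mk_mul, show 2 * (0 * a) + k * b + 1 / k * b = (k + 1 / k) * b by ring]
    refine mul_ne_zero (fun h => hk2 ?_) hb0
    linear_combination h - (1 / k) * h2
  refine ⟨_, trace_mk 0 k (1 / k) hz, ?_, ?_, o1, o2⟩
  · intro he'; rw [he'] at o2; exact hna o2
  · intro he'; rw [he'] at o1; exact hna o1

end Cfsg.Agent.PSLGraph

namespace Cfsg.Agent.PSLGraph

open Matrix SL2Inv PSL2Inv

variable {F : Type*} [Field F] [Fintype F]

local notation "S" => Matrix.SpecialLinearGroup (Fin 2) F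
local notation "P" => Matrix.ProjectiveSpecialLinearGroup (Fin 2) F

theorem exists_lift' {x : P} (hx : x * x = 1) (hx1 : x ≠ 1) :
    ∃ g : S, g.1.trace = 0 ∧ pr g = x := by
  by_cases h2 : (2 : F) = 0
  · obtain ⟨g, rfl⟩ := pr_surjective x
    refine ⟨g, ?_, rfl⟩
    by_contra ht
    obtain ⟨k, hk⟩ := odd_of_trace_ne h2 g ht
    have h := pow_orderOf_eq_one (pr g)
    rw [hk, pow_succ, pow_mul, pow_two, hx, one_pow, one_mul] at h
    exact hx1 h
  · exact exists_lift h2 hx hx1

theorem isConj_w {g : S} (hg : g.1.trace = 0) (hg1 : pr g ≠ 1) : IsConj (pr (w : S)) (pr g) := by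
  by_cases h2 : (2 : F) = 0
  · suffices h : ∃ p : S, g * p = p * w by
      obtain ⟨p, hp⟩ := h
      refine isConj_iff.2 ⟨pr p, ?_⟩
      rw [← map_mul, ← map_inv, ← map_mul, ← hp, mul_inv_cancel_right]
    obtain ⟨a, b, e, hdet, rfl⟩ := exists_mk g hg
    have hc : ringChar F = 2 := by
      by_contra hc
      exact (Ring.two_ne_zero hc) h2
    by_cases he : e = 0
    · have hb : b ≠ 0 := by
        rintro rfl
        subst he
        refine hg1 (pr_eq_one_iff.2 (Or.inl ?_))
        have ha : a = 1 := by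
          have h : (a - 1) * (a - 1) = 0 := by linear_combination (-1 : F) * hdet + (-a) * h2
          exact sub_eq_zero.1 (mul_self_eq_zero.1 h)
        apply Subtype.ext
        ext i j
        fin_cases i <;> fin_cases j <;> simp [mk, ha]
        linear_combination -h2
      obtain ⟨r, hr⟩ := FiniteField.isSquare_of_char_two hc (1 / b)
      have hrb : r * r * b = 1 := by rw [← hr]; field_simp
      refine ⟨⟨!![0, r * b; r, -(r * a)], by rw [det_fin_two_of]; linear_combination hrb - r * r * b * h2⟩, ?_⟩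
      apply Subtype.ext
      ext i j
      show (!![a, b; e, -a] * !![0, r * b; r, -(r * a)]) i j =
        ((!![0, r * b; r, -(r * a)] * !![0, -1; 1, 0] : Matrix (Fin 2) (Fin 2) F)) i j
      fin_cases i <;> fin_cases j <;> simp [Matrix.mul_apply, Fin.sum_univ_two, he]
      all_goals first
        | ring1
        | linear_combination (-r) * hdet
        | linear_combination (-r) * hdet - r * b * he
    · obtain ⟨r, hr⟩ := FiniteField.isSquare_of_char_two hc (1 / e)
      have hre : r * r * e = 1 := by rw [← hr]; field_simp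
      refine ⟨⟨!![r, r * a; 0, r * e], by rw [det_fin_two_of]; linear_combination hre⟩, ?_⟩
      apply Subtype.ext
      ext i j
      show (!![a, b; e, -a] * !![r, r * a; 0, r * e]) i j =
        ((!![r, r * a; 0, r * e] * !![0, -1; 1, 0] : Matrix (Fin 2) (Fin 2) F)) i j
      fin_cases i <;> fin_cases j <;> simp [Matrix.mul_apply, Fin.sum_univ_two]
      all_goals first
        | ring1
        | linear_combination (-r) * hdet
        | linear_combination (-r) * hdet - r * b * he
  · exact isConj_pr_w h2 (pr_mul_self hg) hg1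

theorem exists_far (h4 : 4 ≤ Fintype.card F) :
    ∃ y : S, y.1.trace = 0 ∧ pr y ≠ 1 ∧ pr y ≠ pr (w : S) ∧ ¬ Odd (orderOf (pr w * pr y)) := by
  classical
  by_cases h2 : (2 : F) = 0
  · obtain ⟨b, hb0, hb1⟩ : ∃ b : F, b ≠ 0 ∧ b ≠ 1 := by
      by_contra hno
      push Not at hno
      have hsub : (Finset.univ : Finset F) ⊆ {0, 1} := by
        intro x _
        by_cases a : x = 0
        · simp [a]
        · simp [hno x a]
      have h1 := (Finset.card_le_card hsub).trans Finset.card_le_two
      rw [Finset.card_univ] at h1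
      omega
    have hdet : -((b + 1) * (b + 1)) - b * b = 1 := by linear_combination (-(b * b) - b - 1) * h2
    have hy1 : pr (mk (b + 1) b b hdet) ≠ 1 := by
      intro h
      rcases pr_eq_one_iff.1 h with h | h
      · have := congrFun (congrFun (congrArg Subtype.val h) 0) 1
        simp [mk] at this
        exact hb0 this
      · have := congrFun (congrFun (congrArg Subtype.val h) 0) 1
        simp [mk, coe_negOne] at this
        exact hb0 this
    have hne : pr (mk (b + 1) b b hdet) ≠ pr (w : S) := by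
      intro h
      have h' := (pr_mk_eq_w h).1
      exact hb1 (by linear_combination h' - h2)
    refine ⟨_, trace_mk _ _ _ hdet, hy1, hne, ?_⟩
    have hyy : pr (mk (b + 1) b b hdet) * pr (mk (b + 1) b b hdet) = 1 :=
      pr_mul_self (trace_mk _ _ _ hdet)
    have hww : pr (w : S) * pr w = 1 := pr_mul_self trace_w
    have hsq : (pr (w : S) * pr (mk (b + 1) b b hdet)) * (pr w * pr (mk (b + 1) b b hdet)) = 1 := by
      rw [← map_mul]
      refine pr_mul_self ?_
      rw [trace_w_mul, sub_self]
    have hne1 : pr (w : S) * pr (mk (b + 1) b b hdet) ≠ 1 := by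
      intro h
      exact hne (mul_left_cancel (h.trans hww.symm))
    rw [orderOf_eq_prime (p := 2) (by rw [pow_two, hsq]) hne1]
    decide
  · obtain ⟨j, hj⟩ := exists_anti (F := F) h2
    have hne := (pr_w_ne h2 hj).symm
    refine ⟨j, hj.1, pr_ne_one h2 hj.1, hne, ?_⟩
    have hsq : (pr (w : S) * pr j) * (pr w * pr j) = 1 := by
      rw [← map_mul]
      refine pr_mul_self ?_
      obtain ⟨e1, e2⟩ := hj.entries
      obtain ⟨a, b, e, hdet, rfl⟩ := exists_mk j hj.1
      rw [trace_w_mul, sub_eq_zero]
      simpa [mk] using e2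
    have hne1 : pr (w : S) * pr j ≠ 1 := by
      intro h
      exact hne (mul_left_cancel (h.trans (pr_mul_self trace_w).symm))
    rw [orderOf_eq_prime (p := 2) (by rw [pow_two, hsq]) hne1]
    decide

end Cfsg.Agent.PSLGraph
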